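import Mathlib
import Cfsg.Prelude.Def_HallClasses
import Cfsg.Agent.S0242
import Cfsg.Agent.FastGrp
import Cfsg.Agent.Prune
set_option linter.all false

section
prune_inst 0x7f00000000000000000000000000000000000000000000000000000000000000000000000000000000000000000000000000000000000000000000000000000000000000000000000000000000000000003fffffffffffffffffffffffffffbeffbdffffffff

-- part: H841/PiBS/Desc
section
set_option linter.all false
open scoped Cfsg.Agent.FastGrp

/-!
# S3876: descent of `D_π` (`2 ∈ π`) to 2-local subgroups (helper841)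

`DT π G` : there is a `π`-subgroup `H` of odd index such that every `π`-subgroup of odd index has a conjugate in `H`.

* `DT.of_dPi` : `2 ∈ π` and `D_π` imply `DT π`;
* `DT.descend` : `T` a Sylow 2-subgroup, `T ≤ N`, `N(T) ≤ N`: `DT π G → DT π N`;
* `DT.quot` : `DT π (G ⧸ E)` for a normal `π`-subgroup `E`;
* `DT.le` : `H` contains every `π`-subgroup `U ≥ N(T)` (if `T ≤ H`);
* `DT.map_equiv`, `DT.of_surjective`.
-/

set_option autoImplicit false

namespace Cfsg.Agent.H841.PiBS

open Cfsg Subgroup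

universe u v

/-- a `π`-subgroup of odd index -/
structure OddPi {G : Type u} [Group G] (π : Set ℕ) (H : Subgroup G) : Prop where
  pi : IsPiSubgroup π H
  odd : ¬ 2 ∣ H.index

/-- there is a `π`-subgroup of odd index containing conjugates of all `π`-subgroups of odd index -/
def DT (π : Set ℕ) (G : Type u) [Group G] : Prop :=
  ∃ H : Subgroup G, OddPi π H ∧ ∀ U : Subgroup G, OddPi π U → ∃ g : G, U.map (MulAut.conj g).toMonoidHom ≤ H

section basic

variable {G : Type u} [Group G] {π : Set ℕ}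

theorem mem_map_conj {U : Subgroup G} {g x : G} :
    x ∈ U.map (MulAut.conj g).toMonoidHom ↔ g⁻¹ * x * g ∈ U := by
  constructor
  · rintro ⟨y, hy, rfl⟩
    have e : g⁻¹ * (MulAut.conj g).toMonoidHom y * g = y := by
      show g⁻¹ * (g * y * g⁻¹) * g = y
      group
    rw [e]
    exact hy
  · intro h
    refine ⟨g⁻¹ * x * g, h, ?_⟩
    show g * (g⁻¹ * x * g) * g⁻¹ = x
    group

theorem conj_mem_map {U : Subgroup G} {g x : G} (h : x ∈ U) : g * x * g⁻¹ ∈ U.map (MulAut.conj g).toMonoidHom :=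
  ⟨x, h, rfl⟩

theorem card_map_conj (U : Subgroup G) (g : G) : Nat.card (U.map (MulAut.conj g).toMonoidHom) = Nat.card U :=
  Nat.card_congr (U.equivMapOfInjective _ (MulAut.conj g).injective).symm.toEquiv

theorem index_map_conj (U : Subgroup G) (g : G) : (U.map (MulAut.conj g).toMonoidHom).index = U.index := by
  rw [Subgroup.index_map]
  have h1 : (MulAut.conj g).toMonoidHom.ker = ⊥ := (MonoidHom.ker_eq_bot_iff _).2 (MulAut.conj g).injective
  have h2 : (MulAut.conj g).toMonoidHom.range = ⊤ := MonoidHom.range_eq_top.2 (MulAut.conj g).surjective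
  rw [h1, h2, sup_bot_eq, index_top, mul_one]

theorem map_conj_map_conj (U : Subgroup G) (g h : G) :
    (U.map (MulAut.conj g).toMonoidHom).map (MulAut.conj h).toMonoidHom = U.map (MulAut.conj (h * g)).toMonoidHom := by
  ext x
  rw [mem_map_conj, mem_map_conj, mem_map_conj]
  have e : g⁻¹ * (h⁻¹ * x * h) * g = (h * g)⁻¹ * x * (h * g) := by group
  rw [e]

theorem isPi_of_le [Finite G] {H K : Subgroup G} (h : IsPiSubgroup π K) (hHK : H ≤ K) : IsPiSubgroup π H :=
  fun p hp hd => h p hp (hd.trans (card_dvd_of_le hHK))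

theorem isPi_map {G' : Type v} [Group G'] {K : Subgroup G} (h : IsPiSubgroup π K) (f : G →* G') :
    IsPiSubgroup π (K.map f) :=
  fun p hp hd => h p hp (hd.trans (card_map_dvd K f))

theorem OddPi.conj {H : Subgroup G} (h : OddPi π H) (g : G) : OddPi π (H.map (MulAut.conj g).toMonoidHom) := by
  refine ⟨isPi_map h.pi _, ?_⟩
  rw [index_map_conj]
  exact h.odd

theorem OddPi.exists_sylow [Finite G] {H : Subgroup G} (h : OddPi π H) (T : Sylow 2 G) :
    ∃ g : G, (T : Subgroup G).map (MulAut.conj g).toMonoidHom ≤ H := by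
  obtain ⟨S⟩ : Nonempty (Sylow 2 H) := inferInstance
  have hS : IsPGroup 2 ↥((S : Subgroup H).map H.subtype) := S.isPGroup'.map _
  have hc : ¬ 2 ∣ ((S : Subgroup H).map H.subtype).index := by
    rw [← relIndex_mul_index (map_subtype_le (S : Subgroup H)), Nat.prime_two.dvd_mul, not_or]
    refine ⟨?_, h.odd⟩
    have h1 : ((S : Subgroup H).map H.subtype).relIndex H = (S : Subgroup H).index := by
      rw [relIndex, subgroupOf, comap_map_eq_self_of_injective H.subtype_injective]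
    rw [h1]
    exact S.not_dvd_index
  let P : Sylow 2 G := hS.toSylow hc
  obtain ⟨g, hg⟩ := MulAction.exists_smul_eq G T P
  refine ⟨g, ?_⟩
  intro x hx
  have h1 : x ∈ (P : Subgroup G) := by
    rw [← hg]
    rw [mem_map_conj] at hx
    show x ∈ ((g • T : Sylow 2 G) : Subgroup G)
    rw [Sylow.coe_subgroup_smul, Subgroup.mem_pointwise_smul_iff_inv_smul_mem]
    rw [← map_inv, MulAut.smul_def, MulAut.conj_apply, inv_inv]
    exact hx
  exact map_subtype_le _ h1

/-- two Sylow subgroups inside `H` are conjugate in `H` -/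
theorem exists_conj_in [Finite G] {H : Subgroup G} (T : Sylow 2 G) (hT : (T : Subgroup G) ≤ H) {g : G}
    (hg : (T : Subgroup G).map (MulAut.conj g).toMonoidHom ≤ H) :
    ∃ h ∈ H, (T : Subgroup G).map (MulAut.conj (h * g)).toMonoidHom = T := by
  let P : Sylow 2 H := T.subtype hT
  let T' : Sylow 2 G := g • T
  have hT'e : (T' : Subgroup G) = (T : Subgroup G).map (MulAut.conj g).toMonoidHom := rfl
  have hT' : (T' : Subgroup G) ≤ H := by rw [hT'e]; exact hg
  let P' : Sylow 2 H := T'.subtype hT'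
  obtain ⟨h, hh⟩ := MulAction.exists_smul_eq H P' P
  refine ⟨(h : G), h.2, ?_⟩
  rw [← map_conj_map_conj, ← hT'e]
  ext x
  rw [mem_map_conj]
  constructor
  · intro hx
    have hxH : x ∈ H := by
      have h1 := H.mul_mem (H.mul_mem h.2 (hT' hx)) (H.inv_mem h.2)
      have e : (h : G) * ((h : G)⁻¹ * x * (h : G)) * (h : G)⁻¹ = x := by group
      rwa [e] at h1
    have h2 : (⟨x, hxH⟩ : H) ∈ ((h • P' : Sylow 2 H) : Subgroup H) := by
      rw [Sylow.coe_subgroup_smul, Subgroup.mem_pointwise_smul_iff_inv_smul_mem, ← map_inv, MulAut.smul_def,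
        MulAut.conj_apply, inv_inv]
      show _ ∈ (P' : Subgroup H)
      rw [Sylow.coe_subtype, mem_subgroupOf]
      exact hx
    rw [hh] at h2
    have h3 : (⟨x, hxH⟩ : H) ∈ (P : Subgroup H) := h2
    rw [Sylow.coe_subtype, mem_subgroupOf] at h3
    exact h3
  · intro hx
    have h3 : (⟨x, hT hx⟩ : H) ∈ (P : Subgroup H) := by
      rw [Sylow.coe_subtype, mem_subgroupOf]
      exact hx
    have h2 : (⟨x, hT hx⟩ : H) ∈ ((h • P' : Sylow 2 H) : Subgroup H) := by rw [hh]; exact h3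
    rw [Sylow.coe_subgroup_smul, Subgroup.mem_pointwise_smul_iff_inv_smul_mem, ← map_inv, MulAut.smul_def,
      MulAut.conj_apply, inv_inv] at h2
    have h4 : (h⁻¹ * (⟨x, hT hx⟩ : H) * h) ∈ (P' : Subgroup H) := h2
    rw [Sylow.coe_subtype, mem_subgroupOf] at h4
    exact h4

end basic

section main

variable {G : Type u} [Group G] [Finite G] {π : Set ℕ}

/-- `D_π` and `2 ∈ π` imply `DT π` -/
theorem DT.of_dPi (h : IsDPiGroup π G) (h2 : 2 ∈ π) : DT π G := by
  obtain ⟨T⟩ : Nonempty (Sylow 2 G) := inferInstance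
  have key : ∀ U : Subgroup G, IsPiSubgroup π U → ∃ M : Subgroup G, U ≤ M ∧ Maximal (IsPiSubgroup π) M := by
    intro U hU
    obtain ⟨M, hM, hM'⟩ := (Set.toFinite {K : Subgroup G | IsPiSubgroup π K}).exists_le_maximal hU
    exact ⟨M, hM, hM'⟩
  have hT : IsPiSubgroup π (T : Subgroup G) := by
    intro p hp hd
    obtain ⟨n, hn⟩ := IsPGroup.iff_card.1 T.isPGroup'
    rw [hn] at hd
    rw [(Nat.prime_dvd_prime_iff_eq hp Nat.prime_two).1 (hp.dvd_of_dvd_pow hd)]
    exact h2
  obtain ⟨M, hTM, hM⟩ := key _ hT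
  have hodd : ¬ 2 ∣ M.index := fun hd => T.not_dvd_index (hd.trans (index_dvd_of_le hTM))
  refine ⟨M, ⟨hM.prop, hodd⟩, fun U hU => ?_⟩
  obtain ⟨M', hUM, hM'⟩ := key U hU.pi
  obtain ⟨g, hg⟩ := h M' M hM' hM
  refine ⟨g, ?_⟩
  rw [hg]
  exact map_mono hUM

/-- the basic step: `k ∈ N(T)` with `U ^ k ≤ H` -/
theorem exists_normalizer {H : Subgroup G} (T : Sylow 2 G) (hT : (T : Subgroup G) ≤ H) {U : Subgroup G}
    (hTU : (T : Subgroup G) ≤ U) {g : G} (hg : U.map (MulAut.conj g).toMonoidHom ≤ H) :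
    ∃ k ∈ normalizer ((T : Subgroup G) : Set G), U.map (MulAut.conj k).toMonoidHom ≤ H := by
  obtain ⟨h, hh, he⟩ := exists_conj_in T hT ((map_mono hTU).trans hg)
  refine ⟨h * g, ?_, ?_⟩
  · rw [mem_normalizer_iff]
    intro x
    constructor
    · intro hx
      rw [← he]
      exact conj_mem_map hx
    · intro hx
      rw [← he, mem_map_conj] at hx
      have e : (h * g)⁻¹ * (h * g * x * (h * g)⁻¹) * (h * g) = x := by group
      rwa [e] at hx
  · rw [← map_conj_map_conj]
    intro x hx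
    rw [mem_map_conj] at hx
    have h1 := H.mul_mem (H.mul_mem hh (hg hx)) (H.inv_mem hh)
    have e : h * (h⁻¹ * x * h) * h⁻¹ = x := by group
    rwa [e] at h1

/-- `H` may be chosen to contain `T` -/
theorem DT.exists_over (h : DT π G) (T : Sylow 2 G) :
    ∃ H : Subgroup G, OddPi π H ∧ (T : Subgroup G) ≤ H ∧ ∀ U : Subgroup G, IsPiSubgroup π U →
      (T : Subgroup G) ≤ U → ∃ k ∈ normalizer ((T : Subgroup G) : Set G), U.map (MulAut.conj k).toMonoidHom ≤ H := by
  obtain ⟨H, hH, hU⟩ := h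
  obtain ⟨g, hg⟩ := hH.exists_sylow T
  have hT : (T : Subgroup G) ≤ H.map (MulAut.conj g⁻¹).toMonoidHom := by
    intro x hx
    rw [mem_map_conj, inv_inv]
    exact hg (conj_mem_map hx)
  refine ⟨H.map (MulAut.conj g⁻¹).toMonoidHom, hH.conj _, hT, fun U hUp hTU => ?_⟩
  obtain ⟨k, hk⟩ := hU U ⟨hUp, fun hd => T.not_dvd_index (hd.trans (index_dvd_of_le hTU))⟩
  refine exists_normalizer T hT hTU (g := g⁻¹ * k) ?_
  rw [← map_conj_map_conj]
  exact map_mono hk

/-- `H` contains every `π`-overgroup of `T` that contains `N(T)` -/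
theorem DT.exists_ge (h : DT π G) (T : Sylow 2 G)
    (hN : IsPiSubgroup π (normalizer ((T : Subgroup G) : Set G))) :
    ∃ H : Subgroup G, OddPi π H ∧ ∀ U : Subgroup G, IsPiSubgroup π U → (T : Subgroup G) ≤ U → U ≤ H := by
  obtain ⟨H, hH, hTH, hU⟩ := h.exists_over T
  have hNH : normalizer ((T : Subgroup G) : Set G) ≤ H := by
    obtain ⟨k, hk, hle⟩ := hU _ hN le_normalizer
    intro x hx
    refine hle ?_
    rw [mem_map_conj]
    exact mul_mem (mul_mem (inv_mem hk) hx) hk
  refine ⟨H, hH, fun U hUp hTU => ?_⟩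
  obtain ⟨k, hk, hle⟩ := hU U hUp hTU
  intro x hx
  have h1 : k * x * k⁻¹ ∈ H := hle (conj_mem_map hx)
  have h2 := H.mul_mem (H.mul_mem (H.inv_mem (hNH hk)) h1) (hNH hk)
  have e : k⁻¹ * (k * x * k⁻¹) * k = x := by group
  rwa [e] at h2

/-- **the descent** -/
theorem DT.descend (h : DT π G) (T : Sylow 2 G) {N : Subgroup G} (hTN : (T : Subgroup G) ≤ N)
    (hN : normalizer ((T : Subgroup G) : Set G) ≤ N) : DT π N := by
  obtain ⟨H, hH, hTH, hU⟩ := h.exists_over T
  have hoN : ¬ 2 ∣ ((H ⊓ N).subgroupOf N).index := by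
    intro hd
    have h1 : (T : Subgroup G).subgroupOf N ≤ (H ⊓ N).subgroupOf N := comap_mono (le_inf hTH hTN)
    have h2 := hd.trans (index_dvd_of_le h1)
    have h3 : ((T : Subgroup G).subgroupOf N).index ∣ (T : Subgroup G).index := relIndex_dvd_index_of_le hTN
    exact T.not_dvd_index (h2.trans h3)
  have hpN : IsPiSubgroup π ((H ⊓ N).subgroupOf N) := by
    intro p hp hd
    refine hH.pi p hp (hd.trans ?_)
    have h1 : Nat.card ((H ⊓ N).subgroupOf N) = Nat.card (H ⊓ N : Subgroup G) :=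
      Nat.card_congr (subgroupOfEquivOfLe inf_le_right).toEquiv
    rw [h1]
    exact card_dvd_of_le inf_le_left
  refine ⟨(H ⊓ N).subgroupOf N, ⟨hpN, hoN⟩, fun U hUo => ?_⟩
  let P : Sylow 2 N := T.subtype hTN
  obtain ⟨n, hn⟩ := hUo.exists_sylow P
  -- `T ≤ U' := (U.map subtype) ^ (n⁻¹)`
  let U' : Subgroup G := (U.map (MulAut.conj n⁻¹).toMonoidHom).map N.subtype
  have hU'N : U' ≤ N := map_subtype_le _
  have hTU' : (T : Subgroup G) ≤ U' := by
    intro x hx
    refine ⟨⟨x, hTN hx⟩, ?_, rfl⟩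
    rw [SetLike.mem_coe, mem_map_conj, inv_inv]
    refine hn (conj_mem_map ?_)
    show (⟨x, hTN hx⟩ : N) ∈ (P : Subgroup N)
    rw [Sylow.coe_subtype, mem_subgroupOf]
    exact hx
  obtain ⟨k, hk, hle⟩ := hU U' (isPi_map (isPi_map hUo.pi _) _) hTU'
  have hkN : k ∈ N := hN hk
  refine ⟨⟨k, hkN⟩ * n⁻¹, ?_⟩
  rintro x ⟨y, hy, rfl⟩
  rw [mem_subgroupOf]
  refine ⟨?_, (((MulAut.conj ((⟨k, hkN⟩ : N) * n⁻¹)).toMonoidHom y : N)).2⟩
  have h1 : (((MulAut.conj n⁻¹).toMonoidHom y : N) : G) ∈ U' := ⟨_, ⟨y, hy, rfl⟩, rfl⟩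
  have h2 := hle (conj_mem_map h1)
  have e : (((MulAut.conj ((⟨k, hkN⟩ : N) * n⁻¹)).toMonoidHom y : N) : G) =
      k * (((MulAut.conj n⁻¹).toMonoidHom y : N) : G) * k⁻¹ := by
    show ((((⟨k, hkN⟩ : N) * n⁻¹) * y * ((⟨k, hkN⟩ : N) * n⁻¹)⁻¹ : N) : G) = k * ((n⁻¹ * y * n⁻¹⁻¹ : N) : G) * k⁻¹
    push_cast
    group
  rw [e]
  exact h2

omit [Finite G] in
/-- images under surjections with `π`-kernel -/
theorem DT.of_surjective {G' : Type v} [Group G'] (h : DT π G) (f : G →* G') (hf : Function.Surjective f)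
    (hk : IsPiSubgroup π f.ker) : DT π G' := by
  obtain ⟨H, hH, hU⟩ := h
  refine ⟨H.map f, ⟨isPi_map hH.pi f, fun hd => hH.odd (hd.trans (index_map_dvd H hf))⟩, fun U hUo => ?_⟩
  have hUp : IsPiSubgroup π (U.comap f) := by
    intro p hp hd
    have h1 : Nat.card (U.comap f) = Nat.card U * Nat.card f.ker := by
      let φ : U.comap f →* U := f.subgroupComap U
      have hφ : Function.Surjective φ := f.subgroupComap_surjective_of_surjective U hf
      have h2 := Subgroup.card_eq_card_quotient_mul_card_subgroup φ.ker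
      rw [Nat.card_congr (QuotientGroup.quotientKerEquivOfSurjective φ hφ).toEquiv] at h2
      rw [h2]
      congr 1
      refine Nat.card_congr ⟨fun x => ⟨(x : U.comap f), ?_⟩, fun x => ⟨⟨(x : G), ?_⟩, ?_⟩, ?_, ?_⟩
      · have h3 : φ x = 1 := x.2
        exact congrArg Subtype.val h3
      · show f (x : G) ∈ U
        have h3 : f (x : G) = 1 := x.2
        rw [h3]; exact one_mem _
      · exact Subtype.ext x.2
      · intro x; rfl
      · intro x; rfl
    rw [h1] at hd
    rcases hp.dvd_mul.1 hd with h2 | h2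
    · exact hUo.pi p hp h2
    · exact hk p hp h2
  obtain ⟨g, hg⟩ := hU (U.comap f) ⟨hUp, by rw [index_comap_of_surjective U hf]; exact hUo.odd⟩
  refine ⟨f g, ?_⟩
  rintro _ ⟨y, hy, rfl⟩
  obtain ⟨z, rfl⟩ := hf y
  refine ⟨g * z * g⁻¹, hg (conj_mem_map hy), ?_⟩
  rw [map_mul, map_mul, map_inv]
  rfl

theorem DT.map_equiv {G' : Type v} [Group G'] (h : DT π G) (e : G ≃* G') : DT π G' := by
  refine h.of_surjective e.toMonoidHom e.surjective ?_
  intro p hp hd
  have h1 : e.toMonoidHom.ker = ⊥ := (MonoidHom.ker_eq_bot_iff _).2 e.injective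
  rw [h1, card_bot] at hd
  exact absurd (Nat.dvd_one.1 hd) hp.one_lt.ne'

theorem DT.quot (h : DT π G) (E : Subgroup G) [E.Normal] (hE : IsPiSubgroup π E) : DT π (G ⧸ E) :=
  h.of_surjective (QuotientGroup.mk' E) (QuotientGroup.mk'_surjective E) (by rw [QuotientGroup.ker_mk']; exact hE)

end main

end Cfsg.Agent.H841.PiBS
end

-- part: H173/PiBS/Small
section
set_option linter.all false
open scoped Cfsg.Agent.FastGrp

/-!
# S3876: the groups `L₃(2)` and `S₆` (helper173)

* `seven_mem (h : DT π (SL(3, 2))) : 2 ∈ π → 3 ∈ π → 7 ∈ π`;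
* `five_mem (h : DT π (S₆)) : 2 ∈ π → 3 ∈ π → 5 ∈ π`.
-/

set_option autoImplicit false

namespace Cfsg.Agent.H173.PiBS

open Subgroup Cfsg Cfsg.Agent.H841.PiBS

section gen

variable {K : Type*} [Group K]

/-- a `π`-subgroup from the order -/
theorem isPi_of_card {π : Set ℕ} (h2 : 2 ∈ π) (h3 : 3 ∈ π) {A : Subgroup K} {a b : ℕ}
    (hc : Nat.card A = 2 ^ a * 3 ^ b) : IsPiSubgroup π A := by
  intro p hp hd
  rw [hc] at hd
  rcases hp.dvd_mul.1 hd with h | h
  · rw [(Nat.prime_dvd_prime_iff_eq hp Nat.prime_two).1 (hp.dvd_of_dvd_pow h)]; exact h2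
  · rw [(Nat.prime_dvd_prime_iff_eq hp Nat.prime_three).1 (hp.dvd_of_dvd_pow h)]; exact h3

theorem index_conj (U : Subgroup K) (g : K) : (U.map (MulAut.conj g).toMonoidHom).index = U.index :=
  index_map_conj U g

/-- the order of a group divides the factorial of the index of a corefree subgroup -/
theorem card_dvd_factorial [Finite K] (H : Subgroup K) (hH : H.normalCore = ⊥) :
    Nat.card K ∣ (H.index).factorial := by
  classical
  have : Fintype (K ⧸ H) := Fintype.ofFinite _
  have h1 : Function.Injective (MulAction.toPermHom K (K ⧸ H)) := by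
    rw [← MonoidHom.ker_eq_bot_iff, ← normalCore_eq_ker, hH]
  have h2 := card_dvd_of_injective _ h1
  rwa [Nat.card_perm, ← index_eq_card] at h2

end gen

/-! ### `L₃(2)` -/

section L

abbrev L3 := Matrix.SpecialLinearGroup (Fin 3) (ZMod 2)
abbrev V3 := Fin 3 → ZMod 2

/-- the natural action -/
@[reducible] def act3 : MulAction L3 V3 where
  smul g v := g.1.mulVec v
  one_smul v := Matrix.one_mulVec v
  mul_smul g h v := by
    show (g * h).1.mulVec v = g.1.mulVec (h.1.mulVec v)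
    rw [Matrix.mulVec_mulVec]; rfl

attribute [local instance] act3

theorem smul_def3 (g : L3) (v : V3) : g • v = g.1.mulVec v := rfl

/-- a matrix with first column `w` -/
def mat3 (w : V3) : Matrix (Fin 3) (Fin 3) (ZMod 2) :=
  if w 0 = 1 then !![w 0, 0, 0; w 1, 1, 0; w 2, 0, 1]
  else if w 1 = 1 then !![w 0, 1, 0; w 1, 0, 0; w 2, 0, 1]
  else !![w 0, 0, 1; w 1, 1, 0; w 2, 0, 0]

theorem det_mat3 : ∀ w : V3, w ≠ 0 → (mat3 w).det = 1 := by
  intro w hw
  unfold mat3
  split_ifs with h0 h1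
  · rw [Matrix.det_fin_three]
    simp [h0]
  · rw [Matrix.det_fin_three]
    simp [h1]
  · have h0' : w 0 = 0 := by revert h0; generalize w 0 = a; revert a; decide
    have h1' : w 1 = 0 := by revert h1; generalize w 1 = a; revert a; decide
    have h2' : w 2 = 1 := by
      by_contra h2
      apply hw
      have h2' : w 2 = 0 := by revert h2; generalize w 2 = a; revert a; decide
      funext i; fin_cases i
      · exact h0'
      · exact h1'
      · exact h2'
    rw [Matrix.det_fin_three]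
    simp [h0', h1', h2']

theorem mat3_col (w : V3) : (mat3 w).mulVec (Pi.single 0 1) = w := by
  unfold mat3
  split_ifs <;> (funext i; (revert i; simp only [Matrix.mulVec, dotProduct, Fin.sum_univ_three, _root_.Fin.forall_fin_succ, Fin.isValue, _root_.Matrix.of_apply, _root_.Matrix.cons_val', _root_.Matrix.cons_val_fin_one, _root_.Matrix.cons_val_zero, _root_.Pi.single_eq_same, _root_.mul_one, _root_.Matrix.cons_val_one, _root_.ne_eq, _root_.one_ne_zero, _root_.not_false_eq_true, _root_.Pi.single_eq_of_ne, _root_.MulZeroClass.mul_zero, _root_.add_zero, _root_.Matrix.cons_val, Fin.reduceEq, _root_.Matrix.cons_val_succ, _root_.Fin.succ_zero_eq_one, _root_.Fin.succ_one_eq_two, _root_.IsEmpty.forall_iff, _root_.and_self]))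

theorem orbit_e0 : MulAction.orbit L3 (Pi.single 0 1 : V3) = {w | w ≠ 0} := by
  ext w
  constructor
  · rintro ⟨g, rfl⟩ h
    have h1 : g⁻¹ • (g • (Pi.single 0 1 : V3)) = g⁻¹ • (0 : V3) := by
      have h' : g • (Pi.single 0 1 : V3) = 0 := h
      rw [h']
    rw [inv_smul_smul, smul_def3, Matrix.mulVec_zero] at h1
    have h2 := congrFun h1 0
    simp only [_root_.Fin.isValue, _root_.Pi.single_eq_same, _root_.Pi.zero_apply, _root_.one_ne_zero] at h2
  · intro hw
    exact ⟨⟨mat3 w, det_mat3 w hw⟩, mat3_col w⟩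

theorem index_stab {v : V3} (hv : v ≠ 0) : (MulAction.stabilizer L3 v).index = 7 := by
  rw [MulAction.index_stabilizer]
  have h1 : MulAction.orbit L3 v = {w | w ≠ 0} := by
    rw [← orbit_e0]
    apply MulAction.orbit_eq_iff.2
    rw [orbit_e0]; exact hv
  rw [h1, Set.ncard_eq_toFinset_card']
  decide

/-- the contragredient -/
def theta : L3 →* L3 where
  toFun g := (g⁻¹).transpose
  map_one' := by
    apply Subtype.ext
    rw [inv_one]
    exact Matrix.transpose_one
  map_mul' g h := by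
    apply Subtype.ext
    rw [mul_inv_rev]
    exact Matrix.transpose_mul _ _

theorem theta_inj : Function.Injective theta := by
  intro g h hgh
  have h1 : (g⁻¹).1.transpose = (h⁻¹).1.transpose := (congrArg Subtype.val hgh :)
  have h2 : g⁻¹ = h⁻¹ := Subtype.ext (Matrix.transpose_injective h1)
  exact inv_injective h2

theorem theta_surj : Function.Surjective theta := Finite.injective_iff_surjective.1 theta_inj

theorem card_L3 : Nat.card L3 = 168 := by
  have h := Cfsg.Agent.S0242.result (F := ZMod 2) (q := 2) (by simp) 3 (by norm_num)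
  show Nat.card (Matrix.SpecialLinearGroup (Fin 3) (ZMod 2)) = 168
  generalize Nat.card (Matrix.SpecialLinearGroup (Fin 3) (ZMod 2)) = n at h ⊢
  have h2 : ∏ i : Fin 3, (2 ^ 3 - 2 ^ (i : ℕ)) = 168 := by decide +kernel
  rw [h2] at h
  omega

theorem oddPi_of_index {π : Set ℕ} (h2 : 2 ∈ π) (h3 : 3 ∈ π) {A : Subgroup L3} (hA : A.index = 7) : OddPi π A := by
  have h1 := card_mul_index A
  rw [hA, card_L3] at h1
  refine ⟨isPi_of_card h2 h3 (a := 3) (b := 1) (by omega), ?_⟩
  rw [hA]; decide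

/-- three transvections with a common fixed row -/
def tA : L3 := ⟨!![1, 1, 0; 0, 1, 0; 0, 0, 1], by rw [Matrix.det_fin_three]; decide⟩
def tB : L3 := ⟨!![1, 0, 0; 1, 1, 0; 0, 0, 1], by rw [Matrix.det_fin_three]; decide⟩
def tC : L3 := ⟨!![1, 0, 1; 0, 1, 0; 0, 0, 1], by rw [Matrix.det_fin_three]; decide⟩

theorem inv_of {g : L3} (h : g.1 * g.1 = 1) : g⁻¹ = g := by
  rw [inv_eq_iff_mul_eq_one]
  exact Subtype.ext h

theorem mem_B {g : L3} (h : g.1 * g.1 = 1) (h' : g.1.transpose.mulVec (Pi.single 2 1) = Pi.single 2 1) :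
    g ∈ (MulAction.stabilizer L3 (Pi.single 2 1 : V3)).comap theta := by
  rw [mem_comap, MulAction.mem_stabilizer_iff]
  show (g⁻¹).1.transpose.mulVec (Pi.single 2 1) = Pi.single 2 1
  rw [inv_of h]
  exact h'

theorem no_fix : ∀ v : V3, tA.1.mulVec v = v → tB.1.mulVec v = v → tC.1.mulVec v = v → v = 0 := by
  decide +kernel

/-- **`L₃(2)`** -/
theorem seven_mem {π : Set ℕ} (h2 : 2 ∈ π) (h3 : 3 ∈ π) (h : DT π L3) : 7 ∈ π := by
  obtain ⟨H, hH, hU⟩ := h
  have hne : (Pi.single 0 1 : V3) ≠ 0 := by decide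
  have hne2 : (Pi.single 2 1 : V3) ≠ 0 := by decide
  have hA := index_stab hne
  have hB : ((MulAction.stabilizer L3 (Pi.single 2 1 : V3)).comap theta).index = 7 := by
    rw [index_comap_of_surjective _ theta_surj, index_stab hne2]
  obtain ⟨g, hg⟩ := hU _ (oddPi_of_index h2 h3 hA)
  obtain ⟨k, hk⟩ := hU _ (oddPi_of_index h2 h3 hB)
  have h5 : H.index ∣ 7 := by
    have h6 := index_dvd_of_le hg
    rwa [index_conj, hA] at h6
  rcases (Nat.dvd_prime (by norm_num)).1 h5 with h6 | h6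
  · rw [index_eq_one] at h6
    apply hH.pi 7 (by norm_num)
    rw [h6, card_top, card_L3]
    norm_num
  · exfalso
    have h7 : (MulAction.stabilizer L3 (Pi.single 0 1 : V3)).map (MulAut.conj g).toMonoidHom = H := by
      apply eq_of_le_of_card_ge hg
      have h8 := card_mul_index H
      have h9 := card_mul_index ((MulAction.stabilizer L3 (Pi.single 0 1 : V3)).map (MulAut.conj g).toMonoidHom)
      rw [index_conj, hA, ← h8, h6] at h9
      omega
    rw [← h7] at hk
    have key : ∀ b : L3, b ∈ (MulAction.stabilizer L3 (Pi.single 2 1 : V3)).comap theta →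
        b.1.mulVec ((k⁻¹ * g) • (Pi.single 0 1 : V3)) = (k⁻¹ * g) • (Pi.single 0 1 : V3) := by
      intro b hb
      have h1 := hk (conj_mem_map (g := k) hb)
      rw [mem_map_conj, MulAction.mem_stabilizer_iff] at h1
      rw [← smul_def3, smul_smul]
      have h2 : b * (k⁻¹ * g) = k⁻¹ * g * (g⁻¹ * (k * b * k⁻¹) * g) := by group
      rw [h2, mul_smul (k⁻¹ * g), h1]
    have h8 := no_fix _ (key tA (mem_B (by decide +kernel) (by decide +kernel)))
      (key tB (mem_B (by decide +kernel) (by decide +kernel))) (key tC (mem_B (by decide +kernel) (by decide +kernel)))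
    have h9 : (k⁻¹ * g)⁻¹ • ((k⁻¹ * g) • (Pi.single 0 1 : V3)) = (k⁻¹ * g)⁻¹ • (0 : V3) := by rw [h8]
    rw [inv_smul_smul, smul_def3, Matrix.mulVec_zero] at h9
    exact hne h9

end L

/-! ### `S₆` -/

section S

abbrev S6 := Equiv.Perm (Fin 6)

def t1 : S6 := Equiv.swap (0 : Fin 6) 1
def t2 : S6 := Equiv.swap 0 1 * Equiv.swap 2 3 * Equiv.swap 4 5
def x0 : S6 := Equiv.swap (0 : Fin 6) 2 * Equiv.swap (2 : Fin 6) 4 * (Equiv.swap (1 : Fin 6) 3 * Equiv.swap (3 : Fin 6) 5)

theorem card_S6 : Nat.card S6 = 720 := by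
  rw [Nat.card_perm, Nat.card_fin]; rfl

theorem cyc1 : t1.cycleType = {2} := by
  exact (Equiv.Perm.isSwap_iff_cycleType.1 ⟨0, 1, by decide, rfl⟩)

theorem cyc2 : t2.cycleType = {2, 2, 2} := by
  have h1 : (Equiv.swap (2 : Fin 6) 3).cycleType = {2} := Equiv.Perm.isSwap_iff_cycleType.1 ⟨2, 3, by decide, rfl⟩
  have h3 : (Equiv.swap (4 : Fin 6) 5).cycleType = {2} := Equiv.Perm.isSwap_iff_cycleType.1 ⟨4, 5, by decide, rfl⟩
  have h2 := cyc1
  unfold t1 at h2
  have d1 : (Equiv.swap (0 : Fin 6) 1).Disjoint (Equiv.swap (2 : Fin 6) 3) := by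
    intro x; revert x; decide
  have d2 : (Equiv.swap (0 : Fin 6) 1 * Equiv.swap (2 : Fin 6) 3).Disjoint (Equiv.swap (4 : Fin 6) 5) := by
    intro x; revert x; decide
  unfold t2
  rw [d2.cycleType_mul, d1.cycleType_mul, h1, h2, h3]
  rfl

theorem card_C1 : Nat.card (centralizer ({t1} : Set S6)) = 48 := by
  rw [Equiv.Perm.nat_card_centralizer, cyc1]
  decide

theorem card_C2 : Nat.card (centralizer ({t2} : Set S6)) = 48 := by
  rw [Equiv.Perm.nat_card_centralizer, cyc2]
  decide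

theorem oddPi_six {π : Set ℕ} (h2 : 2 ∈ π) (h3 : 3 ∈ π) {A : Subgroup S6} (hA : Nat.card A = 48) : OddPi π A := by
  have h1 := card_mul_index A
  rw [hA, card_S6] at h1
  refine ⟨isPi_of_card h2 h3 (a := 4) (b := 1) (by omega), ?_⟩
  omega

theorem x0_mem : x0 ∈ centralizer ({t2} : Set S6) := by
  rw [mem_centralizer_singleton_iff]
  decide

theorem x0_swap : ∀ a b : Fin 6, a ≠ b → x0 * Equiv.swap a b ≠ Equiv.swap a b * x0 := by decide +kernel

theorem no_index_five {H : Subgroup S6} (hH : H.index = 5) : False := by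
  by_cases h1 : H.normalCore = ⊥
  · have h2 := card_dvd_factorial H h1
    rw [card_S6, hH] at h2
    exact absurd (Nat.le_of_dvd (by decide) h2) (by decide)
  · have hnt : Nontrivial H.normalCore := (nontrivial_iff_ne_bot _).2 h1
    have h2 := Equiv.Perm.alternatingGroup_le_of_normal (α := Fin 6) (by rw [Nat.card_fin]; norm_num) hnt
    have h3 := index_dvd_of_le (h2.trans (normalCore_le H))
    rw [hH, alternatingGroup.index_eq_two] at h3
    exact absurd h3 (by decide)

/-- **`S₆`** -/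
theorem five_mem {π : Set ℕ} (h2 : 2 ∈ π) (h3 : 3 ∈ π) (h : DT π S6) : 5 ∈ π := by
  obtain ⟨H, hH, hU⟩ := h
  obtain ⟨g, hg⟩ := hU _ (oddPi_six h2 h3 card_C1)
  obtain ⟨k, hk⟩ := hU _ (oddPi_six h2 h3 card_C2)
  obtain ⟨m, hm⟩ := card_dvd_of_le hg
  rw [card_map_conj, card_C1] at hm
  have hmi := card_mul_index H
  rw [hm, card_S6] at hmi
  have h15 : m * H.index = 15 := by
    have h5 : 48 * (m * H.index) = 48 * 15 := by rw [← mul_assoc]; exact hmi
    omega
  by_cases h5 : 5 ∣ m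
  · exact hH.pi 5 (by norm_num) (by rw [hm]; exact h5.mul_left _)
  exfalso
  have hm15 : m ∣ 15 := ⟨_, h15.symm⟩
  have hml : m ≤ 15 := Nat.le_of_dvd (by norm_num) hm15
  have hm1 : m = 1 ∨ m = 3 := by
    interval_cases m <;> simp_all (config := {decide := true}) only [_root_.MulEquiv.toMonoidHom_eq_coe, _root_.MulZeroClass.mul_zero, _root_.Nat.reduceEqDiff, _root_.mul_one, _root_.one_mul, _root_.Nat.reduceMul, _root_.ne_eq, _root_.mul_eq_left₀, _root_.Subgroup.index_eq_one, _root_.Subgroup.index_top]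
  rcases hm1 with rfl | rfl
  · have h7 : (centralizer ({t1} : Set S6)).map (MulAut.conj g).toMonoidHom = H := by
      apply eq_of_le_of_card_ge hg
      rw [card_map_conj, card_C1, hm]
    rw [← h7] at hk
    have h8 := hk (conj_mem_map (g := k) x0_mem)
    rw [mem_map_conj, mem_centralizer_singleton_iff] at h8
    have h9 : x0 * ((k⁻¹ * g) * t1 * (k⁻¹ * g)⁻¹) = ((k⁻¹ * g) * t1 * (k⁻¹ * g)⁻¹) * x0 := by
      generalize x0 = x0' at h8 ⊢
      have e1 : x0' * ((k⁻¹ * g) * t1 * (k⁻¹ * g)⁻¹) = (k⁻¹ * g) * ((g⁻¹ * (k * x0' * k⁻¹) * g) * t1) * (k⁻¹ * g)⁻¹ := by group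
      have e2 : ((k⁻¹ * g) * t1 * (k⁻¹ * g)⁻¹) * x0' = (k⁻¹ * g) * (t1 * (g⁻¹ * (k * x0' * k⁻¹) * g)) * (k⁻¹ * g)⁻¹ := by group
      rw [e1, e2]
      rw [h8]
    have h10 : (k⁻¹ * g) * t1 * (k⁻¹ * g)⁻¹ = Equiv.swap ((k⁻¹ * g) 0) ((k⁻¹ * g) 1) := by
      rw [t1, Equiv.swap_apply_apply]
    rw [h10] at h9
    exact x0_swap _ _ (fun h => absurd ((k⁻¹ * g).injective h) (by decide)) h9
  · exact no_index_five (H := H) (by omega)

end S

end Cfsg.Agent.H173.PiBS

private theorem dce_271560571c06 : _root_.True := by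
  try have : _root_.True := by simp only [_root_.Cfsg.Agent.H173.PiBS.t1.eq_1]
  exact _root_.True.intro
end
end
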